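import Cfsg.Agent.Lib.Fi24.Out.Main
import Cfsg.Agent.Lib.Fi24.HeSub.Data
import Cfsg.Agent.Lib.CosetEnum.Pres
import Cfsg.Agent.S1695

/-! Held's group inside Fi24': the relators are checked at the twelve points of the letters. -/

set_option autoImplicit false
set_option maxRecDepth 20000
set_option Elab.async false

namespace Cfsg.Agent.Lib.Fi24.HeSub

open Cfsg.Agent.Lib
open Cfsg.Agent.Lib.Fi24.Out (val OFacts nonempty_oFacts genPts)

/-- The index of a generator. -/
def heCol (x : Cfsg.Spor.He.Gen) : ℕ := match x with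
  | .a => 0 | .b => 1 | .c => 2 | .d => 3 | .e => 4 | .f => 5 | .g => 6

/-- The word of a generator. -/
def heW (x : Cfsg.Spor.He.Gen) : List ℕ := heWords.getD (heCol x) []

/-- The image of a generator. -/
noncomputable def heImg (x : Cfsg.Spor.He.Gen) : G := val (heW x)

theorem heW_lt (x : Cfsg.Spor.He.Gen) : ∀ g ∈ heW x, g < 12 := by
  cases x <;> decide +kernel

theorem heW_even (x : Cfsg.Spor.He.Gen) : (heW x).length % 2 = 0 := by
  cases x <;> decide +kernel

/-- The labels of the pairs of generators. -/
def lab (i j : ℕ) : ℕ :=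
  if i = j then 1 else [(0, 1, 4), (1, 2, 3), (2, 3, 10), (3, 4, 3), (3, 5, 3), (5, 6, 4), (3, 6, 3)].foldl
    (fun r e => if (e.1 = i ∧ e.2.1 = j) ∨ (e.1 = j ∧ e.2.1 = i) then e.2.2 else r) 2

theorem lab_eq : ∀ x y : Cfsg.Spor.He.Gen,
    Cfsg.Spor.coxLabel Cfsg.Spor.He.edges x y = lab (heCol x) (heCol y) := by
  intro x y; cases x <;> cases y <;> decide

theorem pair_check : (List.range 7).all (fun i => (List.range 7).all fun j => Nat.blt j i ||
    genPts.all fun p => Nat.beq (Cert.scanT table
      (List.replicate (lab i j) (heWords.getD i [] ++ heWords.getD j [])).flatten p) p) = true := by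
  decide +kernel

theorem extra_check : genPts.all (fun p =>
    Nat.beq (Cert.scanT table (heWord4) p) (Cert.scanT table (List.replicate 2 (heWord5 ++ heWord6)).flatten p) &&
    Nat.beq (Cert.scanT table (heWord4) p)
      (Cert.scanT table (List.replicate 3 (heWord0 ++ heWord1 ++ heWord2)).flatten p) &&
    Nat.beq (Cert.scanT table (heWord0) p) (Cert.scanT table (List.replicate 5 (heWord2 ++ heWord3)).flatten p) &&
    Nat.beq (Cert.scanT table (List.replicate 4 (heWord2 ++ heWord3 ++ heWord5 ++ heWord6)).flatten p) p) = true := by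
  decide +kernel

theorem first_moves : (genPts.all fun p => Nat.beq (Cert.scanT table heWord0 p) p) = false := by
  decide +kernel

theorem val_append (u v : List ℕ) : val (u ++ v) = val u * val v := by simp [val]

theorem val_replicate (n : ℕ) (w : List ℕ) : val (List.replicate n w).flatten = val w ^ n :=
  prod_replicate n w

theorem val_eq (F : OFacts) {u v : List ℕ} (hu : ∀ g ∈ u, g < 12) (hv : ∀ g ∈ v, g < 12)
    (h : ∀ g < 12, Cert.scanT table u (genPts.getD g 0) = Cert.scanT table v (genPts.getD g 0)) :
    val u = val v :=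
  F.eq_of_genPts fun g hg hp => Fin.ext (by rw [F.mv_val _ hu, F.mv_val _ hv]; exact h g hg)

theorem genPts_mem {g : ℕ} (hg : g < 12) : genPts.getD g 0 ∈ genPts := by
  have hl : genPts.length = 12 := rfl
  rw [List.getD_eq_getElem _ _ (by omega)]
  exact List.getElem_mem _

theorem exists_isHe_derived : ∃ K : Subgroup ↥(commutator G), Cfsg.IsHe ↥K := by
  obtain ⟨F⟩ := nonempty_oFacts
  have hlt := heW_lt
  have hrep : ∀ (n : ℕ) (w : List ℕ), (∀ g ∈ w, g < 12) → ∀ g ∈ (List.replicate n w).flatten, g < 12 := by
    intro n w hw g hg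
    obtain ⟨l, hl, hgl⟩ := List.mem_flatten.1 hg
    exact hw g (List.eq_of_mem_replicate hl ▸ hgl)
  have happ : ∀ u v : List ℕ, (∀ g ∈ u, g < 12) → (∀ g ∈ v, g < 12) → ∀ g ∈ u ++ v, g < 12 :=
    fun u v hu hv g hg => (List.mem_append.1 hg).elim (hu g) (hv g)
  have hex := extra_check
  simp only [List.all_eq_true, Bool.and_eq_true, Nat.beq_eq] at hex
  have hpair : ∀ x y, (heImg x * heImg y) ^ Cfsg.Spor.coxLabel Cfsg.Spor.He.edges x y = 1 := by
    suffices h : ∀ x y, heCol x ≤ heCol y →
        (heImg x * heImg y) ^ Cfsg.Spor.coxLabel Cfsg.Spor.He.edges x y = 1 by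
      intro x y
      rcases Nat.le_total (heCol x) (heCol y) with hxy | hxy
      · exact h x y hxy
      · have h' := h y x hxy
        rw [CosetEnum.coxLabel_comm] at h'
        rw [show heImg x * heImg y = (heImg y)⁻¹ * (heImg y * heImg x) * ((heImg y)⁻¹)⁻¹ by group, conj_pow, h']
        simp
    intro x y hxy
    have hc : ∀ z, heCol z < 7 := fun z => by cases z <;> decide
    have h := pair_check
    simp only [List.all_eq_true, Bool.or_eq_true, Nat.blt_eq, Nat.beq_eq, List.mem_range] at h
    have h' := fun p hp => (h (heCol x) (hc x) (heCol y) (hc y)).resolve_left (by omega) p hp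
    rw [lab_eq, heImg, heImg, ← val_append, ← val_replicate, show (1 : G) = val [] from rfl]
    exact val_eq F (hrep _ _ (happ _ _ (hlt x) (hlt y))) (by simp) fun g hg => h' _ (genPts_mem hg)
  have he : ∀ r ∈ Cfsg.Spor.He.extra, FreeGroup.lift heImg r = 1 := by
    intro r hr
    simp only [Cfsg.Spor.He.extra, List.mem_cons, List.not_mem_nil, or_false] at hr
    rcases hr with rfl | rfl | rfl | rfl
    · simp only [map_mul, map_inv, map_pow, FreeGroup.lift_apply_of, mul_inv_eq_one, heImg, ← val_append,
        ← val_replicate]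
      exact val_eq F (hlt _) (hrep _ _ (happ _ _ (hlt _) (hlt _))) fun g hg => (hex _ (genPts_mem hg)).1.1.1
    · simp only [map_mul, map_inv, map_pow, FreeGroup.lift_apply_of, mul_inv_eq_one, heImg, ← val_append,
        ← val_replicate]
      exact val_eq F (hlt _) (hrep _ _ (happ _ _ (happ _ _ (hlt _) (hlt _)) (hlt _))) fun g hg =>
        (hex _ (genPts_mem hg)).1.1.2
    · simp only [map_mul, map_inv, map_pow, FreeGroup.lift_apply_of, mul_inv_eq_one, heImg, ← val_append,
        ← val_replicate]
      exact val_eq F (hlt _) (hrep _ _ (happ _ _ (hlt _) (hlt _))) fun g hg => (hex _ (genPts_mem hg)).1.2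
    · simp only [map_mul, map_pow, FreeGroup.lift_apply_of, heImg, ← val_append, ← val_replicate]
      rw [show (1 : G) = val [] from rfl]
      exact val_eq F (hrep _ _ (happ _ _ (happ _ _ (happ _ _ (hlt _) (hlt _)) (hlt _)) (hlt _))) (by simp)
        fun g hg => (hex _ (genPts_mem hg)).2
  have hrel : ∀ r ∈ Cfsg.Spor.coxRelators Cfsg.Spor.He.edges ∪ {r | r ∈ Cfsg.Spor.He.extra},
      FreeGroup.lift heImg r = 1 := by
    rintro r (⟨x, -, y, -, rfl⟩ | hr)
    · rw [map_pow, map_mul, FreeGroup.lift_apply_of, FreeGroup.lift_apply_of]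
      exact hpair x y
    · exact he r hr
  let f : Cfsg.Spor.He →* G := PresentedGroup.toGroup hrel
  have hf : ∀ x, f (PresentedGroup.of x) = heImg x := fun x => PresentedGroup.toGroup.of hrel
  have hmem : ∀ z, f z ∈ commutator G := by
    intro z
    have hz : z ∈ Subgroup.closure (Set.range (PresentedGroup.of : _ → Cfsg.Spor.He)) := by
      rw [PresentedGroup.closure_range_of]; trivial
    induction hz using Subgroup.closure_induction with
    | mem y hy =>
      obtain ⟨x, rfl⟩ := hy
      rw [hf]
      exact (Out.mem_derived_iff _).2 (Out.parity_even (heW_even x))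
    | one => rw [map_one]; exact one_mem _
    | mul u v _ _ hu hv => rw [map_mul]; exact mul_mem hu hv
    | inv u _ hu => rw [map_inv]; exact inv_mem hu
  obtain ⟨hs, hc⟩ := Cfsg.Agent.S1695.result
  let f' : Cfsg.Spor.He →* ↥(commutator G) := f.codRestrict _ hmem
  have hne : heImg .a ≠ 1 := by
    intro h
    have hf' := first_moves
    rw [Bool.eq_false_iff] at hf'
    apply hf'
    rw [List.all_eq_true]
    intro p hp
    rw [Nat.beq_eq]
    have hp' : p < 306936 := (show ∀ p ∈ genPts, p < 306936 by decide +kernel) p hp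
    have h1 := congrArg Fin.val (congrArg (fun z => F.mv z ⟨p, hp'⟩) h)
    rw [heImg, F.mv_val _ (hlt _), F.mv_one] at h1
    exact h1
  have hinj : Function.Injective f' := by
    rw [← MonoidHom.ker_eq_bot_iff]
    haveI := hs
    rcases (MonoidHom.normal_ker f').eq_bot_or_eq_top with h | h
    · exact h
    · exfalso
      apply hne
      have h1 : f' (PresentedGroup.of Cfsg.Spor.He.Gen.a) = 1 := by
        rw [← MonoidHom.mem_ker, h]; trivial
      rw [← hf]
      exact congrArg Subtype.val h1
  let e := MonoidHom.ofInjective hinj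
  haveI := hs
  exact ⟨f'.range, e.symm.isSimpleGroup, (Nat.card_congr e.symm.toEquiv).trans hc⟩

end Cfsg.Agent.Lib.Fi24.HeSub
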